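import Cfsg.Agent.Lib.J3Mult58.Cert
import Cfsg.Agent.Lib.J3Mult58.Data
import Cfsg.Agent.Lib.JankoThree.Gens

/-!
# The certificates for the multiplier of the triple cover of the third Janko group hold
-/

set_option autoImplicit false
set_option maxRecDepth 20000
set_option Elab.async false

namespace Cfsg.Agent.Lib.J3Mult58

open Cfsg.Agent.Lib.Compute Cfsg.Agent.Lib.Compute.Schur Cfsg.Agent.Lib.JankoThree

/-- The complete check against the order `150698880`. -/
noncomputable def fullCheck (A : SchurCert) : Bool :=
  presCheckW jOps wordP 150698880 A && eqnsCheckW jOps wordP A && linCheck A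

theorem schur2_ok : fullCheck schur2 = true := by decide +kernel

theorem schur3_ok : fullCheck schur3 = true := by decide +kernel

end Cfsg.Agent.Lib.J3Mult58
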