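import Cfsg.Agent.Lib.J3Mult58.Checks
import Cfsg.Agent.Lib.JankoThree.Simple
import Cfsg.Agent.Lib.Schur.Perfect
import Cfsg.Agent.Lib.Schur.Sylow

/-!
# The Schur multiplier of the third Janko group

The triple cover in nine dimensions has trivial multiplier (certificates at the primes two and three,
cyclic Sylow subgroups at the others), so the multiplier of the simple quotient is its centre.
-/

set_option autoImplicit false

namespace Cfsg.Agent.Lib.J3Mult58

open scoped commutatorElement

open Cfsg.Spor Cfsg.Agent.Lib.Compute Cfsg.Agent.Lib.Compute.Schur Cfsg.Agent.Lib.JankoThree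

variable {F : Type*} [Field F] [Fintype F] {ω : F} (hF : Fintype.card F = 4)
  (hω : ω ^ 2 + ω + 1 = 0)

local notation "C" => jCoding hF hω

/-- The seven literal generators generate the triple cover. -/
theorem genGroup_gens : genGroup C Data.gens = threeJ3 F ω := by
  refine le_antisymm ((Subgroup.closure_le _).2 ?_) (threeJ3_le hF hω ?_ ?_)
  · rintro g ⟨p, hp, hg⟩
    exact gen_mem_threeJ3 hF hω hp hg
  · rw [monGroup]
    exact Subgroup.closure_mono fun g ⟨p, hp, hg⟩ => ⟨p, mem_gens_of_mem_monGens hp, hg⟩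
  · have hlen : 6 < Data.gens.length := by rw [mon_checks.2.2.2.2]; norm_num
    refine mem_genGroup_of_enc C (List.getElem_mem hlen) ?_
    rw [(el_pair hF hω (invol_pair hF hω)).2.1, invol, genAt, List.getD_eq_getElem _ _ hlen]

theorem pairOK_wordP (w : List ℕ) : PairOK C (genGroup C Data.gens) (wordP w) := by
  induction w with
  | nil => rw [wordP, ← jOps_one]; exact PairOK.one C _
  | cons i w ih =>
    have hi : PairOK C (genGroup C Data.gens) (genAt Data.gens jOps i) :=
      pairOK_genAt C (gensOK_gens hF hω) i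
    have := PairOK.mul C hi ih
    rw [jOps_mul] at this
    exact this

theorem card_gens : Nat.card ↥(genGroup C Data.gens) = 150698880 := by
  rw [genGroup_gens, card_threeJ3 hF hω]

/-- No stem extension of the triple cover has a kernel of order divisible by a prime. -/
theorem not_dvd_ker {Γ : Type*} [Group Γ] [Finite Γ] (σ : Γ →* ↥(genGroup C Data.gens))
    (hσ : Cfsg.IsStemExtension σ) {p : ℕ} (hp : p.Prime) : ¬ p ∣ Nat.card σ.ker := by
  haveI := Fact.mk hp
  intro hd
  haveI : Finite ↥(genGroup C Data.gens) := Nat.finite_of_card_ne_zero (by rw [card_gens]; norm_num)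
  obtain ⟨P⟩ : Nonempty (Sylow p ↥(genGroup C Data.gens)) := inferInstance
  by_cases h2 : p ^ 2 ∣ 150698880
  · obtain ⟨x, hx⟩ := exists_prime_orderOf_dvd_card' p hd
    have hker : (x : Γ) ^ p = 1 := by
      rw [← hx, ← Subgroup.coe_pow, pow_orderOf_eq_one, Subgroup.coe_one]
    have hmem : (x : Γ) ∈ σ.ker ⊓ commutator Γ := ⟨x.2, hσ.2.2 x.2⟩
    have hp23 : p = 2 ∨ p = 3 := by
      have hle : p ∣ 150698880 := (dvd_pow_self p two_ne_zero).trans h2
      have : (150698880 : ℕ) = 2 ^ 7 * 3 ^ 6 * 5 * 17 * 19 := by norm_num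
      rw [this] at hle
      rcases (Nat.Prime.dvd_mul hp).1 hle with h | h
      · rcases (Nat.Prime.dvd_mul hp).1 h with h | h
        · rcases (Nat.Prime.dvd_mul hp).1 h with h | h
          · rcases (Nat.Prime.dvd_mul hp).1 h with h | h
            · exact Or.inl ((Nat.prime_dvd_prime_iff_eq hp Nat.prime_two).1 (hp.dvd_of_dvd_pow h))
            · exact Or.inr ((Nat.prime_dvd_prime_iff_eq hp Nat.prime_three).1 (hp.dvd_of_dvd_pow h))
          · obtain rfl := (Nat.prime_dvd_prime_iff_eq hp (by norm_num)).1 h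
            norm_num at h2
        · obtain rfl := (Nat.prime_dvd_prime_iff_eq hp (by norm_num)).1 h
          norm_num at h2
      · obtain rfl := (Nat.prime_dvd_prime_iff_eq hp (by norm_num)).1 h
        norm_num at h2
    have key : ∀ A : SchurCert, A.R.p = p → A.r = 1 → fullCheck A = true → False := by
      intro A hA hr h
      simp only [fullCheck, Bool.and_eq_true] at h
      obtain ⟨a, ha, hgen⟩ := exists_generator C (pairOK_wordP hF hω) (card_gens hF hω)
        (A := A) (by rw [hA]; exact hp) h.1.1 h.1.2 h.2 σ hσ.1 hσ.2.1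
      rw [hr, pow_one] at ha
      have := hgen x hmem 1 (by rw [hA, pow_one, hker])
      rw [ha, Subgroup.zpowers_one_eq_bot, Subgroup.mem_bot] at this
      have : x = 1 := Subtype.ext this
      rw [this, orderOf_one] at hx
      exact hp.ne_one hx.symm
    rcases hp23 with rfl | rfl
    · exact key schur2 rfl rfl schur2_ok
    · exact key schur3 rfl rfl schur3_ok
  · obtain ⟨n, hn⟩ := IsPGroup.iff_card.1 P.isPGroup'
    have hn1 : n ≤ 1 := by
      by_contra hc
      refine h2 ((pow_dvd_pow p (show 2 ≤ n by omega)).trans ?_)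
      rw [← hn, ← card_gens hF hω]
      exact Subgroup.card_subgroup_dvd_card _
    haveI : IsCyclic P := by
      interval_cases n
      · haveI : Subsingleton P := (Nat.card_eq_one_iff_unique.1 (by simpa using hn)).1
        infer_instance
      · exact isCyclic_of_prime_card (p := p) (by simpa using hn)
    exact Cfsg.Agent.Lib.Schur.not_dvd_card_ker_of_isCyclic hσ P hd

include hF hω in
/-- The triple cover has trivial multiplier. -/
theorem multiplier_threeJ3 : Cfsg.HasCyclicSchurMultiplier ↥(threeJ3 F ω) 1 := by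
  haveI : Finite ↥(threeJ3 F ω) := Nat.finite_of_card_ne_zero (by rw [card_threeJ3 hF hω]; norm_num)
  refine Cfsg.Agent.Lib.Schur.hasCyclicSchurMultiplier_one_of_forall_prime _ fun Γ _ _ σ hσ p hp hd =>
    not_dvd_ker hF hω ((MulEquiv.subgroupCongr (genGroup_gens hF hω).symm).toMonoidHom.comp σ) ?_ hp ?_
  · have hk : ((MulEquiv.subgroupCongr (genGroup_gens hF hω).symm).toMonoidHom.comp σ).ker = σ.ker :=
      MonoidHom.ker_comp_of_injective _ _ (MulEquiv.injective _)
    exact ⟨(MulEquiv.subgroupCongr (genGroup_gens hF hω).symm).surjective.comp hσ.1, hk.trans_le hσ.2.1, hk.trans_le hσ.2.2⟩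
  · rwa [MonoidHom.ker_comp_of_injective _ _ (MulEquiv.injective _)]

include hF hω in
theorem isPerfect_threeJ3 : Group.IsPerfect ↥(threeJ3 F ω) := by
  have hle : threeGroup hF hω ≤ threeJ3 F ω := (threeGroup_le hF hω).trans (monGroup_le hF hω)
  have h : ∀ i < 2, gA hF hω i ∈ commutator ↥(threeJ3 F ω) := by
    intro i hi
    obtain ⟨p, hp, q, hq, e⟩ := comm_mem hF hω i hi
    have h1 : gA hF hω i = ⁅(⟨p, hle hp⟩ : ↥(threeJ3 F ω)), ⟨q, hle hq⟩⁆ := Subtype.ext e
    rw [h1]
    exact Subgroup.commutator_mem_commutator (Subgroup.mem_top _) (Subgroup.mem_top _)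
  exact Group.isPerfect_def.2
    (normal_top_of_gens hF hω inferInstance (h 0 (by norm_num)) (h 1 (by norm_num)))

include hF hω in
/-- The multiplier of the simple group has order three. -/
theorem multiplier_J3 : Cfsg.HasCyclicSchurMultiplier (J3 F ω) 3 := by
  haveI : Finite ↥(threeJ3 F ω) := Nat.finite_of_card_ne_zero (by rw [card_threeJ3 hF hω]; norm_num)
  set π := QuotientGroup.mk' (Subgroup.center ↥(threeJ3 F ω))
  have hπ : Function.Surjective π := QuotientGroup.mk'_surjective _
  have hker : π.ker = Subgroup.center ↥(threeJ3 F ω) := QuotientGroup.ker_mk' _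
  have hcard : Nat.card π.ker = 3 := by rw [hker]; exact card_center hF hω
  have hperf := isPerfect_threeJ3 hF hω
  have hst : Cfsg.IsStemExtension π := ⟨hπ, hker.le, by rw [hperf.commutator_eq_top]; exact le_top⟩
  haveI : Fact (Nat.Prime 3) := ⟨Nat.prime_three⟩
  haveI : IsCyclic π.ker := isCyclic_of_prime_card hcard
  have hinf : π.ker ⊓ commutator ↥(threeJ3 F ω) = π.ker := inf_eq_left.2 hst.2.2
  let e : π.ker ≃* Multiplicative (ZMod 3) := mulEquivOfCyclicCardEq (by rw [hcard]; simp)
  refine Cfsg.Agent.Lib.Schur.hasSchurMultiplier_of_bound π hπ hst.2.1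
    ((MulEquiv.subgroupCongr hinf).trans e).toMonoidHom (MulEquiv.surjective _) fun Y _ τ h1 h2 => ?_
  obtain ⟨g, hg⟩ := Cfsg.Agent.Lib.Schur.exists_surjection_of_trivial_middle hst
    (multiplier_threeJ3 hF hω) τ h1 h2
  refine (Nat.card_le_card_of_surjective g hg).trans ?_
  rw [hcard]
  simp

end Cfsg.Agent.Lib.J3Mult58
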